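import Mathlib
import Cfsg.Agent.Lib.Golay.Mask

/-!
The Golay code in the bit-mask model: parity table, membership test `isCode`, the 4096 code
words `cw u`, weights, counts, closure properties of `supports golayCode`.
-/

set_option autoImplicit false

namespace H15
open Cfsg

/-- The supports of the Golay code words. -/
abbrev CodeSets : Set (Finset GolayPt) := supports (golayCode : Set (GolayPt → ZMod 2))

/-! ### Words and supports -/

/-- the 0/1 word with support `s`. -/
def wordOf (s : Finset GolayPt) : GolayPt → ZMod 2 := fun p => if p ∈ s then 1 else 0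

theorem mem_support₂ {α : Type*} [Fintype α] (w : α → ZMod 2) (a : α) :
    a ∈ support₂ w ↔ w a ≠ 0 := by
  show a ∈ Finset.univ.filter (fun a => w a ≠ 0) ↔ _
  simp

theorem zmod2_ne_zero {x : ZMod 2} : x ≠ 0 ↔ x = 1 := by revert x; decide

theorem support₂_wordOf (s : Finset GolayPt) : support₂ (wordOf s) = s := by
  ext p
  rw [mem_support₂]
  unfold wordOf
  by_cases h : p ∈ s <;> simp [h]

theorem wordOf_support₂ (w : GolayPt → ZMod 2) : wordOf (support₂ w) = w := by
  funext p
  unfold wordOf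
  by_cases h : w p = 0
  · rw [if_neg (by rw [mem_support₂]; exact fun h' => h' h), h]
  · rw [if_pos ((mem_support₂ w p).2 h)]
    exact (zmod2_ne_zero.1 h).symm

theorem support₂_injective : Function.Injective (support₂ : (GolayPt → ZMod 2) → Finset GolayPt) :=
  fun v w h => by rw [← wordOf_support₂ v, h, wordOf_support₂]

theorem wordOf_injective : Function.Injective wordOf :=
  fun s t h => by rw [← support₂_wordOf s, h, support₂_wordOf]

theorem mem_codeSets_iff {s : Finset GolayPt} : s ∈ CodeSets ↔ wordOf s ∈ golayCode := by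
  constructor
  · rintro ⟨w, hw, rfl⟩
    rw [wordOf_support₂]; exact hw
  · intro h
    exact ⟨wordOf s, h, support₂_wordOf s⟩

theorem support₂_mem_codeSets_iff {w : GolayPt → ZMod 2} :
    support₂ w ∈ CodeSets ↔ w ∈ golayCode := by
  rw [mem_codeSets_iff, wordOf_support₂]

theorem wordOf_symmDiff (s t : Finset GolayPt) : wordOf (symmDiff s t) = wordOf s + wordOf t := by
  funext p
  simp only [wordOf, Finset.mem_symmDiff, Pi.add_apply]
  by_cases hs : p ∈ s <;> by_cases ht : p ∈ t <;> simp [hs, ht]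
  decide

theorem wordOf_empty : wordOf ∅ = 0 := by funext p; simp [wordOf]

theorem wordOf_univ : wordOf Finset.univ = 1 := by funext p; simp [wordOf]

theorem hammingNorm_eq_card (w : GolayPt → ZMod 2) : hammingNorm w = (support₂ w).card := rfl

theorem hammingNorm_wordOf (s : Finset GolayPt) : hammingNorm (wordOf s) = s.card := by
  rw [hammingNorm_eq_card, support₂_wordOf]

theorem symmDiff_mem_codeSets {s t : Finset GolayPt} (hs : s ∈ CodeSets) (ht : t ∈ CodeSets) :
    symmDiff s t ∈ CodeSets := by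
  rw [mem_codeSets_iff] at *
  rw [wordOf_symmDiff]
  exact Submodule.add_mem _ hs ht

theorem empty_mem_codeSets : (∅ : Finset GolayPt) ∈ CodeSets := by
  rw [mem_codeSets_iff, wordOf_empty]; exact Submodule.zero_mem _

theorem univ_mem_codeSets : (Finset.univ : Finset GolayPt) ∈ CodeSets := by
  rw [mem_codeSets_iff, wordOf_univ]
  exact Submodule.subset_span (Set.mem_union_right _ rfl)

theorem compl_mem_codeSets {s : Finset GolayPt} (hs : s ∈ CodeSets) : sᶜ ∈ CodeSets := by
  have := symmDiff_mem_codeSets hs univ_mem_codeSets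
  convert this using 1
  ext p
  simp [Finset.mem_symmDiff]

theorem mem_octads_iff {s : Finset GolayPt} : s ∈ octads ↔ s ∈ CodeSets ∧ s.card = 8 := Iff.rfl

theorem mem_dodecads_iff {s : Finset GolayPt} : s ∈ dodecads ↔ s ∈ CodeSets ∧ s.card = 12 := Iff.rfl

/-! ### xor-combinations of a list of masks -/

/-- xor of the entries of the list selected by the bits of `u`. -/
def encL (L : List ℕ) : ℕ → ℕ :=
  List.rec (fun _ => 0)
    (fun b _ ih u => Nat.xor (Bool.rec 0 b (Nat.beq (Nat.mod u 2) 1)) (ih (Nat.div u 2))) L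

theorem encL_nil (u : ℕ) : encL [] u = 0 := rfl

theorem encL_cons (b : ℕ) (L : List ℕ) (u : ℕ) :
    encL (b :: L) u = (if u % 2 = 1 then b else 0) ^^^ encL L (u / 2) := by
  show Nat.xor (@Bool.rec (fun _ => ℕ) 0 b (Nat.beq (u % 2) 1)) (encL L (u / 2)) = _
  rcases Nat.mod_two_eq_zero_or_one u with h | h <;> rw [h] <;> rfl

/-- A property of masks closed under xor that holds on `0` and on the list holds on all
combinations. -/
theorem encL_induction {P : ℕ → Prop} (h0 : P 0) (hx : ∀ a b, P a → P b → P (a ^^^ b)) :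
    ∀ (L : List ℕ), (∀ b ∈ L, P b) → ∀ u, P (encL L u)
  | [], _, _ => h0
  | b :: L, hL, u => by
    rw [encL_cons]
    refine hx _ _ ?_ (encL_induction h0 hx L (fun c hc => hL c (List.mem_cons_of_mem _ hc)) _)
    split_ifs
    · exact hL b List.mem_cons_self
    · exact h0

theorem encL_xor : ∀ (L : List ℕ) (u v : ℕ), encL L (u ^^^ v) = encL L u ^^^ encL L v
  | [], _, _ => by simp [encL_nil]
  | b :: L, u, v => by
    rw [encL_cons, encL_cons, encL_cons, Nat.xor_div_two, encL_xor L]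
    have hm : (u ^^^ v) % 2 = 1 ↔ ¬ (u % 2 = 1 ↔ v % 2 = 1) := by
      rw [Nat.xor_mod_two_eq_one]
    by_cases hu : u % 2 = 1 <;> by_cases hv : v % 2 = 1
    · rw [if_neg (by rw [hm]; simp [hu, hv]), if_pos hu, if_pos hv, Nat.zero_xor,
        Nat.xor_assoc, ← Nat.xor_assoc (encL L (u / 2)) b, Nat.xor_comm (encL L (u / 2)) b,
        ← Nat.xor_assoc, ← Nat.xor_assoc, Nat.xor_self, Nat.zero_xor]
    · rw [if_pos (by rw [hm]; simp [hu, hv]), if_pos hu, if_neg hv, Nat.zero_xor, Nat.xor_assoc]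
    · rw [if_pos (by rw [hm]; simp [hu, hv]), if_neg hu, if_pos hv, Nat.zero_xor,
        ← Nat.xor_assoc, ← Nat.xor_assoc, Nat.xor_comm b]
    · rw [if_neg (by rw [hm]; simp [hu, hv]), if_neg hu, if_neg hv]
      simp

/-! ### The systematic basis (twelve octads) and the parity table -/

/-- A basis of the code consisting of twelve octads, systematic on the indices `0..11`. -/
def basisL : List ℕ := [13062145, 4845570, 13938692, 7221256, 10170384, 11952160, 15515712, 2019456, 4038912, 8077824, 11654144, 14919680]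

/-- masks of the 24 generators of `golayCode`: the 23 translates of the squares, and all-ones. -/
def genL : List ℕ := [340831, 681662, 1363324, 2726648, 5453296, 2517985, 5035970, 1683333, 3366666, 6733332, 5078057, 1767507, 3535014, 7070028, 5751449, 3114291, 6228582, 4068557, 8137114, 7885621, 7382635, 6376663, 4364719, 16777215]

/-- table of the parity parts (12 bits per entry). -/
def parTab : ℕ := 0xfff38ab607152b4ec162ba5e91c569d831f64578220c8cbd64ca392d3ea6b07772f983ed0afcda430845de419197b50e4998ec006c739d25a7d4d13827ae0f6e5a90f31344bae7dbd2a15f9b55c0061c144fe88bbc97bcf56323682af721de68133d465ac9d9c7800d8e74927d0ba534ff3aa9b6eee042718804f5c1f06a5cb9be154d21e63216afc689328f5d7b7bc2a55620eca2bf71eb6b381ff4cb60c382945c1fdd885629173e6f93779b0cead2d8a3264750597019adef84e43bcd10a4e12267a8d6f8359f2c7c6bb38f1484c6e01b5ba9cf125d507a1bd433ef4baea69fe75200142d375dd9a8c0907c8964e35749011ebd9e83f44aca00d5397fe2708b7dedc2a9a43636cc70b285842d18cdf9513966a24651ebb2ce76fb1a3f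0f850decab441834d951e090a57f63da482a2ed7b76703fe939c96d518df21874268530b9cccf8e3fbb117642c5eb065aa2fbb87cdf273526f3a8626ce19d5b12e9c45b1010c6548f8fa20be7e694ae1f40335bdf7aa4e889d077c029a35d6d3c149c250508ba4cf16ed1b5f1984ac66b3e5922c78dbf8312f675969e3109d7c8dd4a8c42037375f007eab9fe3e24baa16d4743b363dcfa9a0867de972e21a0dd553f94aceb09e874401ef0285a6f61a3bbfce724b51813466c8c0f955892d1c7db22e9e9c676a03fa23d7b3d74840a87f095ce0941534dde1abb5a72ffc53b0611a6428eefbdb91cc9265530f2c8746d81898f5fad101654c48b105bc2ef6c319bf3786227e526b8acd03cc494a38d6d771029e859d6dfaaa240e35b947e1f0b37edc81bd957522083cf641c869b2b75efb43c1660a152ffe8a47b80e0e4c91930545daf1da298eed607a72fd33a6b4c7396aeadb231e44be5790f7a30f04dc384d28a7d061739995ecf1d368b827f7256e236c9abc9fe58bd611144b58c002ac5f304f7179bbeee4f23aad06a55e7992178d0d8ac4d9c33046ab76c2e2825d7fcb89363f16c540218cb4be11fd6a5809f5862417cfd08852995c1b6dc3e812f4a1e66b3cafbf755b201d1da454e93bc9a0ef805470732b473adfd8a7960cee629384b43ecd40a150097519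fdeaea82dda376423e3f9677cb091f8d8d567912cb30c682c45971bb6e384ff1a50625ecf2ba32df587b2bc7e66213af968c5ce9bb151d248854f0c1a06fa9e6ebe012747d5ba034af3fc7d0088e2497136d435a99dc687af2218e6dbcc7b9f53326064c114fb88ed2f15a9b05c5f34341bab7de27fe0a6e0a959d75a2d4813d49c8e9003c76de119497e50b0aacdf435840b02777f9d3e8649a3c2d6ea34528270cdcb891956cd861f32b1ec462ea5bffa38fb657109a65d3d3914c4ed898072c07f45330bda7af20ee7b691ae4015c6048a8ffd5e12b9c15b46f6a83269e1cbbd7c8f223572c0eb565fa2af8b3feb147614238560bccc996851ddf7182b73706fec399638a4d2a7ed2d901e590f57a0dbcae44483176ab1f3f5f80a21654ebe2cb189dfc516963cc20b785d428ed92aca46633392fe770db7883a44fca50d05719041eed9bc0c0798934e6147d325d89adaef69ae702057a4bd133bf4e5bf9ca120d558f4481c6b01e35cf297c3bb6e17262a886fdb917e4f0e37b6daaaf245e30d721079ed598039c4c4a68d3222e576bdac8f6931cbf67834c18b405ec2b98a5ffd151600f7c8246881ddbc1c9923556614a6128befeb5f72afc03b5944531ddb1ae40f87a090ce5fa73d2b3874d2ece99673a0655d9281c2db7816463c890fc3befcb721b54ef5280a6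a61fcee09b8714041a5dd053a94fa0d678e922e7746b333d9face3b24eaa46d1370f057efb9a8d84adc470325939e610cd79788bfd317f62ac36b6e5c22916bd1e5f4981c200558bf4caa7c609ee3296737b423a8fddc9f0ea8004751d4da154b93e3cffba750b25e842f1a1b66e52c9591b3dc6867412cf808d11ad6f5859f0c510248ce4bb7f9b8c366f13ab26c7e2d2588a94dcc360435e299717dd08e4a23fad56a0301f7479ebeb4b08c502fc5a9fb58ed64111253e266ccab9f1836db877f2d0317699c5e9048c3d4d78a2be0795f7f30a6abade234e41fd63a3b4973c29dee8602a77935540daa1df47e80b0e1c94665a102fae8fb2e75bfb13c4086cf341986cdcd1b89525274e289707dc089a95dcd36143201e7469eaebf4a33fbd57a0d511249ce5bb01ac6f4858f0bb27c7f2d3586f9a8c266e13f843f1b1b76e2cfeba650a25967512df818d42c8590b3cc6637a422a8eddb7c709fe33960d4ca144b83ed9f1ea900575a2e65beb12c4765b103faf8fccd0b8852427186df351996c39dfe8702b77ed62a3a4963c57e90b1e1d94835440caa0df148d3d5d79a2c0307689c4e97abbde334f41ae0695e7f20a8fb48ec640115b09c512fd5ae1826da876f2353f267ccbb950f97a190de5844431cdb0ae3ecf99773b06ea72d2a3864dcbc0c98234561f7d8256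891da5f62aec02b5714b6138bffee6921caf6683322f577bdbc888a4ffc150605c19b415ed2b7dabaf345f30a916e4e0e27b139d4c5a69d3c720078ed498bc37b6f5c329688afd217e62d201559bf5ca06bc1e4f4881270e056efa9af3b34eba47d14938e600cc799d85add471320a5cd043a84fdee19b971504646a332d9eacb0d778f923e7916563d891fc45d8280c2cb7ff5380b6a71f2beecb621a54738b4d3a7fd2a73606eec2991dbdae544931c900e580f47ae8b2fea146613c0fb575fb2a86841dcf70825239561bcdc9c5e02b8c14b4115d6058a9ffabd6c8e222577f6b83369f1c5ed998172d078a64d3c3904c30ef7b791be4e45230ada6af9f4581d6b11e4bf8ca020c55f17362b887fd25ce296c3ab6047c324d88add0c1799935e66a4ad123be4ebef79af70305292ee760da78fd93acb467334718040eec9b93a54fda51d0b21754fbe3cb66aa1f2f5e80dc21b795d528089cfc4168636d5aa024ae3fb9e7ebf01374036c434a98dcd7d1089e2597f66313bf978c22de586b2ac79855f0d1a16f4ce8bb051c24db31c692c5590f8c8d467812b50725fcf3ba61ba6e284ef140087509fcea94b53edd41a12e3e9667ca09fa83ddb3774281946cc860f35529271cddb8efa28fa656103b1fc472eb5b1aaddf535940ce109487e40b749b3c3d6fa3a02677e9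d2e837ff0a7e0b95e34241aab6de59c9e9103d768d74a2c4803dacc6b9e53226787bf2318f6dc2f05a8b04c5164d115fb98e356f237c9bbce1d268a826f75b59c012ad5f8fe48bc61014ae5690e7a20f7aebdb331f44c060738994ec14dd385d29a7830445caf0da57b90e1e4d91ed32a6a4c639398fed707b72183df651c969cc80bd857422760b153fff8aa2b65eeb42c1d9a1ef9055700d1ca444e83bb7970cfe6393632a472aded842985c0b6cc3962517dfd1882caebf655a20f813f4b1e76b6fca89263e16bb77c2f2835d01fc6a4808f5d541219cb5bef4f33abd07a5204e7169baee9ac5d9d331464e7892078c0d2bbece624a51ff0385b6f71a45882d0c7cb2913566d8c1f9b0877df973e2643a362dcea9deb19e9745010a0cd543f84a9dd5a8d421374968e3009c7cf3e34bba17d4275e006eaa9f06ec1b4f1884d251509ba5cf68daf8212e67bc67b3f5932cc770028e849d13cd495a39d6a946e1e0b27e7dfbaa340f355c49b115bd2e88f4fac10065327f527b8bcde6c219af3686711b6438effba5a62fec52b01f2d8756d918cb90cc826453ea22d7a3d6483e9f9c776b03841434cde0ab50a97f195de008ccf9413866dc71b295852d66fa1a2f0e85b24751fbb3ce93f54ada01d54748010ebc9efdc3a9b43736297ee2608a7dbea79ff753006a1ad423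ee4bd0917c9965e3042c374dd8a8259e2c6c6ab3f12367b8d7f84ba8cf025c509f1584d6e11be40235adf6aa30bf7e794be18a34d6c3c0495e899d177d027f3b8636cf19ab86cde27252110d6558f9fac5b02e8c44b15269531b9dcc86d418cf20873c5fb075ab2fe8e2fba11664c950e080a47f1dedab541934a76603ee929c73db483a2fd7161d145fe98bc2a05f8b54c0782bf731df68ac96bce562238d24a7c4d0385999ec106d73e31244aae6db37af0f7e5b90a07672e982ed74cb393d3fa6ce409187b40e1afdda5309453b4fc172bb5eeff28aa606155579221c8dbd81c469c830f6fad3d8b327472e6e93679a0c94e53bdd11a440587009acef61ea6b281ef4b55720fca3bf0fdc88462817db61c392955c4cb8be054c219805f5d1f16a228e5d6b7ac2f63316bfc789d7810d9e7592033c464ac8d9b9b7eef043716d0aa524fe3a1c5db055a92fc8e0fb811464726b533b9fcca6d618ef2287876403ce909c53d9481a2dd7e952e0a0a67f3defab741b34aa36d6e3c2497e8b9d377f02c400358df4aa10bd7e5949e1310f6578fbfae5b22eac46b15f398616cd198b84cdc27052f0937cb967e3242e376ddaa89ea59fd751004a18d403ec4b6baacf225e50bf1784f6e31b059c2c4c68b3d1216798d5f846f81a0f0c85924551dbb1ce28cef9613a66fc73b2b5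872dddc1a9943536097ce240887db3f74afa03d5674a012ebe9e028c5d4b78c2d631169fc5896cbabe254e21b807f5f1f36a99b5eed041714d08a504fc3af7830dbe7792233e466acad9b4e73bfd13a4605a7029aeefdad1d89325470e6c9347980c2fde88662a17fb63c3b2975c41e86b081cf4955520dca1bfee4291a7b60e3affda730b45807472c980ed54c9391d3da6757b223c8fbda1c669e832f61b4dc152b95ecff08a8604155829f711dd688c94bcc56023361f147feb8be2a25fab56c0c310448ae4db17ad0f5e5990ad26a7e4d238799bec306f7321fe6a680af5f54321bcb7be4fc889063c169b75c2d2815dbac7d9f333466e7a92278e0dd4f13a9d05a5004c7149b8ee97950cde61934328470adcd8f9a3efb057702d1ea464ea3b0cacbf455820d811f491e56b629a5c2b6ec3b62717ffd388cd30a684c439198ded507972a30645eaf2da77bb0e3e4f915609151ffd8a82b45ecb40c1383ff671cb69ec82bda576227b5bc032af5fafe68be61214156d235c99bcc1d0688824f7e06273a996ec34df387d2ba78e5490c7a00f5ae9db131d443f2f8776db18eb92cca2665351196418edfb85a42fcc50b0a41634ede2ab70ab7f395fe0ca20d783d4481e9d9c5769038944e1c0b07e5df9aa140d35e77202ae869d33cf497a3bd6127d525b89cdc6c0198f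34867c4bb135bf2ea8f6fae10265d3e14b9a15d4075c004ea89fbdd7a8f42337696ae3209e7c48d8f8012c679c65b3d5912c26ee1b6f1a84f25350bba7cf658a2d2c7eb2b13766f8c3f90bbcce424851df018596f51afeb39eb747012a0ed563fa4a90857dd971e24438360dcca9671a042eee9bb3a74ffa53d0092ce740d878dd91ac946533fc23b7b5d728289efc616a63921554dbe1cb46a81f0f5c80d171629885fd05cc294c38b6bf4781f6b31e6bfaca220e554a48d103bc4e9ef59ad70105247e326d8aadf0c379b937e68bd4c8c220575f6983169d1ce5e22bac16b4315f6078abff10ed7b5919e4c450308da4af7edb98372f07aa66d3e3924c3dbfae744b31e902e5a0f67a53894d1a7dd2873406cec099a6861def7282723b563bcfc9c8b0fe8144611c0db555f92a79cbe9303f76ad76a2e4823d17fd0a5e0995c340418ab4dee2f25aab06c5364f117fbb8e8cc4b9c530265879f2118d6dcfa08f8654101b1dc452e95ba1966ce862f3752b273cdfb854993c1d6da3802477c9d0e83aafdf735b40ee1294a7e60b950525dcf1ba41b86e084cf1fb33c6b2c7592f8e8d667a120e3c9647c809da81dd937542600a7529feeab4b73efd43a1236e436a9adcf7d308be27974d58a004ac3f99e5ebd01174b857f0f1a36f6ceabb251e24d661139f958c02dc584b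28c75ab9de134d418e0495c7f00a348f3d7d7ba2e03276a9c6e9c1806d8874f2153d265cc9b9afb68ee642117b0bc532ff5aecd2b8a52627386ff3719b6c82e45bcb10c45659101fad8f77eb0b3e1f94a35640eaa2df19dde8502977cd60a384943cb67712ff838d62ca592b3ec6d841f191b56e0cfcba4508252d4ea164ba3ef9f3eab007754378420a8cdd97c509de3196001c7449e8ebd4a13f9d55a06e2a9727de08ba97dcf363439b25c7d2d1584f988c066c13f51324bce7bb21ae6f685af04468330d9cac90d578d921e72a5ed063aa4ffee39bb71704df518096a51f0beccb421854b16763f893fc65da282c2eb7f20355bbf7ca26be1e6f4a819c35b6d5c1294888fd017c62693ae620ce79bd87adf47332070c054ef89ad3b14e9a45d1a8a6ffe152607c1bb435ef2bc6901c8f6483122d575bd9c8339f4c7a6bd3e72207aed6985da9af145d308914e4c0e07b1ecd99573906ca70d283844d70fb7a390fe5a44631edb2ae85f42acc00b551496118bdfeebc2c9a236563f7f82768b1dad86ade47232793be630cf79c3b04e8a44d1170d055ef99a36bf1e7f4b81e20255abf6ca5889fd117d628c34b6c5c0291bedcb521954cf508086a41f75db283c2fb7a16663e892fc80d478c920e75469331d9daceee29ba716043a5fd073ab4f41486108bcfe95f52adc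01b52f7e82668a1dfbc3c9b23756da71d293854d0ecc99473806b44731fdb3ae60fa7a290ee5f72307bed798239e4c6a6ad39915e4d0e17b4da8af045c306c1ab425ee2bb8a7fff15360022c574bd8c8d6911c9f6583b35740faa3df67ea0b2e1e94dd61a394953c09dce8402877286ef3619a6cfcd3b8b527274658100fac8f92e55bdb11c4053c264cc8b9d1816d9875f26b0ac522fe5abfb78ef643119e0595d7f10a4ab8de034c41f03376b9c7e9248e3d6d7aa25f998c166d138b24c7c2d05831af6f785bf0e51224ace6bbc4a03f8d54a0101d7459e9ebaa96dce362437e2b9737df08e9f2eaa006753d4fa174bb3e87c409ce30965379421a8ddd72cb593b3fc6a67612ef828d1cfdba550925c840f181b46e902577d9d1e844983c0d6ca3fe1394b7e70b2aaedf635a400b1cc442e85bdfa18f965510652a272cdeb8b1976cf863f3264e116fba8ef2f35abb07c54878f2018c6d9cc5b9d53126bd77a2f4833d69cae9203e76d341419ab5de07fc0a4e08957cebbb351f24a856f0e1a26f12dd585b29c7c660138f948ce7d208ae2697336f437a9bdc89e4ebc010745d59a014ad3fca80dd8374421e3d9657c909a4b63eed42a1700b7539ffea51b96e184df1850425ccf0ba3f8f8d767b12eb32c6a2c6598ef49ac700055a49d113bd4ee0c279a936e6347f327d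8bad15cd295c39b6c170628884fd7bfbca320f55af4681e6b21e389ffc716b63ec22b7a5d62856a91f1f5d80821454cbe0cba3a64fea52d0771b043eef9bcd90ac846433192de750d978623a562bcec9b6871dff73820c0cb545f82ad8b1fe914561f903e5b0f77a2dbeae644a31973506dec19943884d0a7cd2d451309da5af00ec7b4918e4ba67d3f3934c6eda98272e074f6883069c1c9bd5c8d22157215e6068aafff5e32bbc17b4d6c1199f3586027c524b88cdb8f7faf103656c4ab125be2e4df8aa040c359945e1d0b17e23ce496a3ad6f77302be879d60aa7f295ee0b41734fde3ab0e9c9c476803da21d793d548fb93ccb267532f2e8766da1895a52fdc51b041186408ecfb3a0fd573fb4aeeb29ea746015439361dcda980847dc970e2a13666e8c2f9758b2d3c7fb2cf008586f41a1bbdce5249518c64b3c5902c58d9f8112d67e25250aba6cf36ef1b7f1b84175d005ea99fc3e04b8a14d4796be3309f7cadd6a8e42237c810f481e46b1cadbf555920a62617efd288729b5c3b6fc35329471addd887940cce60933d1fa474eb3be9a2efa056707e7b92378f0daac6d9e33246104d7159b9eec4f03a8d04a5e54221acb6be31ff6a780bf58b74c2c2805d5fc989163d1624de386d2aa7f06373b997ec4ae8db031c449e5590d7a10fbfe78bf613146b5ac022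ae5fd1d1689825f7056c234c98bc92b55edb41c14608150ffc8afc83bdb57722283ef661ca69098ced407872dd31a694c53967ba0e2e4e91b30745faf3daeb62c3a2965c3fdf88762b17855420cca0bf51e96b181df4705b7039afefa4e63bed12a41e6d9357990ccad0d88324475d09a514fd3a89b4eec04071333f467acbd9e7820dae7692c630168fc489128d5d5b79c2a806f5e1f26a7cbbbe354f2107ac0f4e5890d311449ae5db699aec206e73bd27a7f4d3389c95bcd561234828f701dc68f2a35fbb57c0261e146fea8bb1c769f833f6657a222c8ebddff18a9605150b4cc142b85e2afeda630a45fe4391b7b70e44c8390d3ca6907572d981edf5b32ebc47b1210e6568fafa9b85cdd271524f388606cc196e8a9d277e02ba37d6f3c34900bc7e4948e1d401359df5aa43d8480a2cd7976503de919c2deeab641a34f953e0b0a77fd8e1fb9115640c5cb045a82fb6d718ff2387626a532b9ecc197de250897dcdc0a9843436774b013ebf9ea3f64aea02d5824451cbb0ce56f91a1f0d85ec72b2a5862d38cff9713b66af1684e6e21b7babcf325f50c1206788d4f8159d2c5c69b3342f377ddba8e0927ca966e35a19d413ed4b8ea49fc75000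

/-- parity part of the code word with information part `u < 4096`. -/
def par (u : ℕ) : ℕ := Nat.land (Nat.shiftRight parTab (Nat.mul 12 u)) 4095

/-- the code word (as a mask) with information part `u < 4096`. -/
def cw (u : ℕ) : ℕ := Nat.add u (Nat.mul 4096 (par u))

/-- kernel test: `m` is the mask of a code word. -/
def isCode (m : ℕ) : Bool := Nat.beq (Nat.shiftRight m 12) (par (Nat.land m 4095))

/-- kernel test: `m` is the mask of an octad. -/
def isOctad (m : ℕ) : Bool := Bool.rec false (Nat.beq (wt m) 8) (isCode m)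

/-- kernel test: `m` is the mask of a dodecad. -/
def isDodecad (m : ℕ) : Bool := Bool.rec false (Nat.beq (wt m) 12) (isCode m)

theorem isOctad_iff {m : ℕ} : isOctad m = true ↔ isCode m = true ∧ wt m = 8 := by
  unfold isOctad
  cases isCode m <;> simp

theorem isDodecad_iff {m : ℕ} : isDodecad m = true ↔ isCode m = true ∧ wt m = 12 := by
  unfold isDodecad
  cases isCode m <;> simp

theorem cw_check : allLt2 64 64 (fun u => Nat.beq (cw u) (encL basisL u)) = true := by
  decide +kernel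

theorem cw_eq_encL {u : ℕ} (hu : u < 4096) : cw u = encL basisL u :=
  Nat.eq_of_beq_eq_true (allLt2_iff.1 cw_check u hu)

theorem par_lt (u : ℕ) : par u < 4096 := by
  unfold par
  rw [land_4095]
  exact Nat.mod_lt _ (by norm_num)

theorem cw_eq (u : ℕ) : cw u = u + 4096 * par u := rfl

theorem cw_lt {u : ℕ} (hu : u < 4096) : cw u < 2 ^ 24 := by
  have := par_lt u
  rw [cw_eq]
  omega

theorem cw_mod {u : ℕ} (hu : u < 4096) : cw u % 4096 = u := by
  rw [cw_eq]; omega

theorem cw_inj {u v : ℕ} (hu : u < 4096) (hv : v < 4096) (h : cw u = cw v) : u = v := by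
  rw [← cw_mod hu, h, cw_mod hv]

theorem isCode_iff' {m : ℕ} : isCode m = true ↔ m / 4096 = par (m % 4096) := by
  unfold isCode
  rw [land_4095, Nat.beq_eq]
  have : Nat.shiftRight m 12 = m / 4096 := Nat.shiftRight_eq_div_pow m 12
  rw [this, show (2 : ℕ) ^ 12 = 4096 from rfl]

theorem isCode_iff {m : ℕ} : isCode m = true ↔ ∃ u < 4096, cw u = m := by
  rw [isCode_iff']
  constructor
  · intro h
    refine ⟨m % 4096, Nat.mod_lt _ (by norm_num), ?_⟩
    rw [cw_eq, ← h]; omega
  · rintro ⟨u, hu, rfl⟩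
    rw [cw_mod hu, cw_eq]
    omega

theorem isCode_cw {u : ℕ} (hu : u < 4096) : isCode (cw u) = true := isCode_iff.2 ⟨u, hu, rfl⟩

theorem isCode_lt {m : ℕ} (h : isCode m = true) : m < 2 ^ 24 := by
  obtain ⟨u, hu, rfl⟩ := isCode_iff.1 h
  exact cw_lt hu

theorem cw_xor {u v : ℕ} (hu : u < 4096) (hv : v < 4096) : cw (u ^^^ v) = cw u ^^^ cw v := by
  have huv : u ^^^ v < 4096 := Nat.xor_lt_two_pow (n := 12) hu hv
  rw [cw_eq_encL hu, cw_eq_encL hv, cw_eq_encL huv, encL_xor]

theorem isCode_xor {a b : ℕ} (ha : isCode a = true) (hb : isCode b = true) :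
    isCode (a ^^^ b) = true := by
  obtain ⟨u, hu, rfl⟩ := isCode_iff.1 ha
  obtain ⟨v, hv, rfl⟩ := isCode_iff.1 hb
  rw [← cw_xor hu hv]
  exact isCode_cw (Nat.xor_lt_two_pow (n := 12) hu hv)

theorem isCode_zero : isCode 0 = true := by decide +kernel

theorem qrWord_eq : ∀ t : ZMod 23, ∀ p : GolayPt,
    qrWord t p = wordOf (ofMask (genL.getD t.val 0)) p := by
  decide +kernel

theorem genL_code : ∀ b ∈ genL, isCode b = true := by decide +kernel

theorem genL_mem : ∀ b ∈ genL, ofMask b ∈ CodeSets := by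
  have h : ∀ b ∈ genL, b = 16777215 ∨ ∃ t : ZMod 23, b = genL.getD t.val 0 := by decide +kernel
  intro b hb
  rcases h b hb with rfl | ⟨t, rfl⟩
  · rw [ofMask_full]; exact univ_mem_codeSets
  · rw [mem_codeSets_iff, ← funext (qrWord_eq t)]
    exact Submodule.subset_span (Set.mem_union_left _ ⟨t, rfl⟩)

theorem encL_mem_codeSets {L : List ℕ} (hL : ∀ b ∈ L, ofMask b ∈ CodeSets) (u : ℕ) :
    ofMask (encL L u) ∈ CodeSets :=
  encL_induction (P := fun m => ofMask m ∈ CodeSets) (by rw [ofMask_zero]; exact empty_mem_codeSets)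
    (fun a b ha hb => by rw [ofMask_xor']; exact symmDiff_mem_codeSets ha hb) L hL u

theorem basisL_mem : ∀ b ∈ basisL, ofMask b ∈ CodeSets := by
  have h : ∀ b ∈ basisL, ∃ c ∈ ([8390313, 280, 8389785, 1400, 8390330, 8390551, 8390093, 2000, 1347, 101, 8390243, 8390181] : List ℕ), b = encL genL c := by decide +kernel
  intro b hb
  obtain ⟨c, -, rfl⟩ := h b hb
  exact encL_mem_codeSets genL_mem c

theorem ofMask_cw_mem {u : ℕ} (hu : u < 4096) : ofMask (cw u) ∈ CodeSets := by
  rw [cw_eq_encL hu]; exact encL_mem_codeSets basisL_mem u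

theorem ofMask_mem_of_isCode {m : ℕ} (h : isCode m = true) : ofMask m ∈ CodeSets := by
  obtain ⟨u, hu, rfl⟩ := isCode_iff.1 h
  exact ofMask_cw_mem hu

theorem exists_isCode_of_mem {w : GolayPt → ZMod 2} (hw : w ∈ golayCode) :
    ∃ m, isCode m = true ∧ wordOf (ofMask m) = w := by
  induction hw using Submodule.span_induction with
  | mem x hx =>
    rcases hx with ⟨t, rfl⟩ | rfl
    · refine ⟨genL.getD t.val 0, ?_, (funext (qrWord_eq t)).symm⟩
      revert t; decide +kernel
    · exact ⟨16777215, by decide +kernel, by rw [ofMask_full, wordOf_univ]⟩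
  | zero => exact ⟨0, isCode_zero, by rw [ofMask_zero, wordOf_empty]⟩
  | add x y _ _ hx hy =>
    obtain ⟨a, ha, rfl⟩ := hx
    obtain ⟨b, hb, rfl⟩ := hy
    exact ⟨a ^^^ b, isCode_xor ha hb, by rw [ofMask_xor', wordOf_symmDiff]⟩
  | smul c x _ hx =>
    have hc : c = 0 ∨ c = 1 := by revert c; decide
    rcases hc with rfl | rfl
    · exact ⟨0, isCode_zero, by rw [ofMask_zero, wordOf_empty, zero_smul]⟩
    · rw [one_smul]; exact hx

/-- Every support of a code word is `ofMask` of a mask passing `isCode`. -/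
theorem exists_isCode_of_mem_codeSets {s : Finset GolayPt} (hs : s ∈ CodeSets) :
    ∃ m, isCode m = true ∧ ofMask m = s := by
  obtain ⟨m, hm, h⟩ := exists_isCode_of_mem (mem_codeSets_iff.1 hs)
  exact ⟨m, hm, wordOf_injective h⟩

theorem exists_cw_of_mem_codeSets {s : Finset GolayPt} (hs : s ∈ CodeSets) :
    ∃ u < 4096, ofMask (cw u) = s := by
  obtain ⟨m, hm, rfl⟩ := exists_isCode_of_mem_codeSets hs
  obtain ⟨u, hu, rfl⟩ := isCode_iff.1 hm
  exact ⟨u, hu, rfl⟩

theorem ofMask_mem_codeSets_iff {m : ℕ} (hm : m < 2 ^ 24) :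
    ofMask m ∈ CodeSets ↔ isCode m = true := by
  refine ⟨fun h => ?_, ofMask_mem_of_isCode⟩
  obtain ⟨m', hm', h'⟩ := exists_isCode_of_mem_codeSets h
  rwa [← ofMask_inj (isCode_lt hm') hm h']

theorem mem_codeSets_iff_mask {s : Finset GolayPt} : s ∈ CodeSets ↔ isCode (mask s) = true := by
  rw [← ofMask_mem_codeSets_iff (mask_lt s), ofMask_mask]

theorem ofMask_mem_octads_iff {m : ℕ} (hm : m < 2 ^ 24) :
    ofMask m ∈ octads ↔ isOctad m = true := by
  rw [mem_octads_iff, isOctad_iff, ofMask_mem_codeSets_iff hm, card_ofMask]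

theorem ofMask_mem_dodecads_iff {m : ℕ} (hm : m < 2 ^ 24) :
    ofMask m ∈ dodecads ↔ isDodecad m = true := by
  rw [mem_dodecads_iff, isDodecad_iff, ofMask_mem_codeSets_iff hm, card_ofMask]

theorem ofMask_mem_octads {m : ℕ} (h : isOctad m = true) : ofMask m ∈ octads :=
  (ofMask_mem_octads_iff (isCode_lt (isOctad_iff.1 h).1)).2 h

theorem ofMask_mem_dodecads {m : ℕ} (h : isDodecad m = true) : ofMask m ∈ dodecads :=
  (ofMask_mem_dodecads_iff (isCode_lt (isDodecad_iff.1 h).1)).2 h

theorem mem_octads_iff_mask {s : Finset GolayPt} : s ∈ octads ↔ isOctad (mask s) = true := by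
  rw [← ofMask_mem_octads_iff (mask_lt s), ofMask_mask]

theorem mem_dodecads_iff_mask {s : Finset GolayPt} : s ∈ dodecads ↔ isDodecad (mask s) = true := by
  rw [← ofMask_mem_dodecads_iff (mask_lt s), ofMask_mask]

/-- To prove a property of all code sets, run through the 4096 masks `cw u`. -/
theorem forall_codeSets {P : Finset GolayPt → Prop} (h : ∀ u < 4096, P (ofMask (cw u))) :
    ∀ s ∈ CodeSets, P s := by
  intro s hs
  obtain ⟨u, hu, rfl⟩ := exists_cw_of_mem_codeSets hs
  exact h u hu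

/-- Induction over the code: a property closed under symmetric difference that holds for `∅` and
for the twelve basis octads holds for all code sets. -/
theorem codeSets_induction {P : Finset GolayPt → Prop} (h0 : P ∅)
    (hx : ∀ s t, P s → P t → P (symmDiff s t)) (hb : ∀ b ∈ basisL, P (ofMask b)) :
    ∀ s ∈ CodeSets, P s := by
  refine forall_codeSets fun u hu => ?_
  rw [cw_eq_encL hu]
  exact encL_induction (P := fun m => P (ofMask m)) (by rw [ofMask_zero]; exact h0)
    (fun a b ha hb => by rw [ofMask_xor']; exact hx _ _ ha hb) basisL hb u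

theorem basisL_octad : ∀ b ∈ basisL, ofMask b ∈ octads := by
  have h : ∀ b ∈ basisL, isOctad b = true := by decide +kernel
  exact fun b hb => ofMask_mem_octads (h b hb)

/-- Counting code sets with a property given by a Boolean test on masks. -/
theorem ncard_codeSets_filter (f : ℕ → Bool) (S : Set (Finset GolayPt))
    (hS : ∀ u < 4096, ofMask (cw u) ∈ S ↔ f (cw u) = true) (hsub : S ⊆ CodeSets) :
    S.ncard = countLt2 64 64 (fun u => f (cw u)) := by
  rw [countLt2_eq, ← Set.ncard_coe_finset]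
  symm
  apply Set.ncard_congr (fun u _ => ofMask (cw u))
  · intro u hu
    simp only [Finset.coe_filter, Finset.mem_range, Set.mem_ofPred_eq] at hu
    exact (hS u hu.1).2 hu.2
  · intro u v hu hv h
    simp only [Finset.coe_filter, Finset.mem_range, Set.mem_ofPred_eq] at hu hv
    exact cw_inj hu.1 hv.1 (ofMask_inj (cw_lt hu.1) (cw_lt hv.1) h)
  · intro s hs
    obtain ⟨u, hu, rfl⟩ := exists_cw_of_mem_codeSets (hsub hs)
    refine ⟨u, ?_, rfl⟩
    simp only [Finset.coe_filter, Finset.mem_range, Set.mem_ofPred_eq]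
    exact ⟨hu, (hS u hu).1 hs⟩

/-! ### Weights and counts -/

theorem weight_check : allLt2 64 64 (fun u => bit 0x1011101 (wt (cw u))) = true := by
  decide +kernel

theorem card_of_mem_codeSets {s : Finset GolayPt} (hs : s ∈ CodeSets) :
    s.card = 0 ∨ s.card = 8 ∨ s.card = 12 ∨ s.card = 16 ∨ s.card = 24 := by
  obtain ⟨u, hu, rfl⟩ := exists_cw_of_mem_codeSets hs
  have h := allLt2_iff.1 weight_check u hu
  have hle : (ofMask (cw u)).card ≤ 24 := by
    rw [← card_golayPt]; exact Finset.card_le_univ _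
  rw [← card_ofMask] at h
  generalize (ofMask (cw u)).card = k at h hle
  revert h
  revert k
  decide +kernel

theorem four_dvd_card_of_mem_codeSets {s : Finset GolayPt} (hs : s ∈ CodeSets) : 4 ∣ s.card := by
  rcases card_of_mem_codeSets hs with h | h | h | h | h <;> rw [h] <;> decide

theorem card_symmDiff_add (s t : Finset GolayPt) :
    (symmDiff s t).card + 2 * (s ∩ t).card = s.card + t.card := by
  have h1 : symmDiff s t = (s ∪ t) \ (s ∩ t) := symmDiff_eq_sup_sdiff_inf s t
  have h2 := Finset.card_sdiff_add_card_eq_card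
    (show s ∩ t ⊆ s ∪ t from Finset.inter_subset_union)
  have h3 := Finset.card_union_add_card_inter s t
  rw [h1]; omega

/-- Two code sets meet in an even number of points. -/
theorem even_card_inter {s t : Finset GolayPt} (hs : s ∈ CodeSets) (ht : t ∈ CodeSets) :
    Even (s ∩ t).card := by
  have h := card_symmDiff_add s t
  obtain ⟨a, ha⟩ := four_dvd_card_of_mem_codeSets hs
  obtain ⟨b, hb⟩ := four_dvd_card_of_mem_codeSets ht
  obtain ⟨c, hc⟩ := four_dvd_card_of_mem_codeSets (symmDiff_mem_codeSets hs ht)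
  rw [Nat.even_iff]; omega

/-- Distinct code sets differ in at least 8 points. -/
theorem eq_of_card_symmDiff_lt {s t : Finset GolayPt} (hs : s ∈ CodeSets) (ht : t ∈ CodeSets)
    (h : (symmDiff s t).card < 8) : s = t := by
  rcases card_of_mem_codeSets (symmDiff_mem_codeSets hs ht) with h' | h' | h' | h' | h'
  · exact symmDiff_eq_bot.1 (Finset.card_eq_zero.1 h')
  all_goals omega

/-- Two octads with five common points are equal. -/
theorem octad_eq_of_five {o o' : Finset GolayPt} (ho : o ∈ octads) (ho' : o' ∈ octads)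
    (h : 5 ≤ (o ∩ o').card) : o = o' := by
  apply eq_of_card_symmDiff_lt ho.1 ho'.1
  have := card_symmDiff_add o o'
  rw [ho.2, ho'.2] at this
  omega

theorem octad_eq_of_subset {o o' s : Finset GolayPt} (ho : o ∈ octads) (ho' : o' ∈ octads)
    (h : 5 ≤ s.card) (h1 : s ⊆ o) (h2 : s ⊆ o') : o = o' :=
  octad_eq_of_five ho ho' (le_trans h (Finset.card_le_card (Finset.subset_inter h1 h2)))

/-- Two distinct octads meet in 0, 2 or 4 points. -/
theorem card_inter_octads {o o' : Finset GolayPt} (ho : o ∈ octads) (ho' : o' ∈ octads)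
    (hne : o ≠ o') : (o ∩ o').card = 0 ∨ (o ∩ o').card = 2 ∨ (o ∩ o').card = 4 := by
  have h1 := even_card_inter ho.1 ho'.1
  have h2 : ¬ 5 ≤ (o ∩ o').card := fun h => hne (octad_eq_of_five ho ho' h)
  rw [Nat.even_iff] at h1
  omega

/-- An octad meets a dodecad in 2, 4 or 6 points. -/
theorem card_inter_octad_dodecad {o d : Finset GolayPt} (ho : o ∈ octads) (hd : d ∈ dodecads) :
    (o ∩ d).card = 2 ∨ (o ∩ d).card = 4 ∨ (o ∩ d).card = 6 := by
  have h1 := even_card_inter ho.1 hd.1
  have h2 := card_symmDiff_add o d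
  have h3 := card_of_mem_codeSets (symmDiff_mem_codeSets ho.1 hd.1)
  have h4 : (o ∩ d).card ≤ o.card := Finset.card_le_card Finset.inter_subset_left
  rw [ho.2] at h2 h4
  rw [hd.2] at h2
  rw [Nat.even_iff] at h1
  omega

theorem compl_mem_dodecads {d : Finset GolayPt} (hd : d ∈ dodecads) : dᶜ ∈ dodecads :=
  ⟨compl_mem_codeSets hd.1, by rw [Finset.card_compl, card_golayPt, hd.2]⟩

theorem symmDiff_mem_octads {o o' : Finset GolayPt} (ho : o ∈ octads) (ho' : o' ∈ octads)
    (h : (o ∩ o').card = 4) : symmDiff o o' ∈ octads := by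
  refine ⟨symmDiff_mem_codeSets ho.1 ho'.1, ?_⟩
  have := card_symmDiff_add o o'
  rw [ho.2, ho'.2, h] at this
  omega

theorem ncard_codeSets : CodeSets.ncard = 4096 := by
  rw [ncard_codeSets_filter (fun _ => true) CodeSets (fun u hu => by simp [ofMask_cw_mem hu]) le_rfl]
  decide +kernel

theorem ncard_octads : octads.ncard = 759 := by
  rw [ncard_codeSets_filter (fun m => Nat.beq (wt m) 8) octads
    (fun u hu => by simp [mem_octads_iff, ofMask_cw_mem hu, card_ofMask]) (fun s hs => hs.1)]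
  decide +kernel

theorem ncard_dodecads : dodecads.ncard = 2576 := by
  rw [ncard_codeSets_filter (fun m => Nat.beq (wt m) 12) dodecads
    (fun u hu => by simp [mem_dodecads_iff, ofMask_cw_mem hu, card_ofMask]) (fun s hs => hs.1)]
  decide +kernel

theorem natCard_golayCode : Nat.card golayCode = 4096 := by
  rw [← ncard_codeSets]
  show Nat.card (golayCode : Set (GolayPt → ZMod 2)) = (support₂ '' (golayCode : Set (GolayPt → ZMod 2))).ncard
  rw [Set.ncard_image_of_injective _ support₂_injective, Nat.card_coe_set_eq]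

theorem finrank_golayCode : Module.finrank (ZMod 2) golayCode = 12 := by
  have h := Module.natCard_eq_pow_finrank (K := ZMod 2) (V := golayCode)
  rw [natCard_golayCode, Nat.card_zmod] at h
  exact (Nat.pow_right_injective (le_refl 2) (show 2 ^ 12 = 2 ^ _ from h)).symm

theorem dot_wordOf (s t : Finset GolayPt) :
    ∑ i, wordOf s i * wordOf t i = ((s ∩ t).card : ZMod 2) := by
  rw [Finset.card_eq_sum_ones, Nat.cast_sum, ← Finset.sum_subset (Finset.subset_univ (s ∩ t))]
  · refine Finset.sum_congr rfl fun p hp => ?_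
    rw [Finset.mem_inter] at hp
    simp [wordOf, hp.1, hp.2]
  · intro p _ hp
    rw [Finset.mem_inter] at hp
    by_cases hs : p ∈ s
    · have ht : p ∉ t := fun h => hp ⟨hs, h⟩
      simp [wordOf, ht]
    · simp [wordOf, hs]

/-- The code is self-orthogonal. -/
theorem dot_eq_zero {v w : GolayPt → ZMod 2} (hv : v ∈ golayCode) (hw : w ∈ golayCode) :
    ∑ i, v i * w i = 0 := by
  rw [← wordOf_support₂ v, ← wordOf_support₂ w, dot_wordOf]
  exact (ZMod.natCast_eq_zero_iff_even).2
    (even_card_inter (support₂_mem_codeSets_iff.2 hv) (support₂_mem_codeSets_iff.2 hw))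

theorem squareDodecad_eq : Spor.squareDodecad = ofMask 340831 := by
  show support₂ (qrWord 0) = _
  rw [funext (qrWord_eq 0), support₂_wordOf]
  rfl

theorem squareDodecad_mem : Spor.squareDodecad ∈ dodecads := by
  rw [squareDodecad_eq]
  exact ofMask_mem_dodecads (by decide +kernel)

/-! ### equation lemmas (realised here once) -/
theorem eqns_Lib_Golay_Code : True := by
  have := @CodeSets.eq_def
  have := @CodeSets.eq_1
  have := @wordOf.eq_def
  have := @wordOf.eq_1
  have := @encL.eq_def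
  have := @encL.eq_1
  have := @basisL.eq_def
  have := @basisL.eq_1
  have := @genL.eq_def
  have := @genL.eq_1
  have := @parTab.eq_def
  have := @parTab.eq_1
  have := @par.eq_def
  have := @par.eq_1
  have := @cw.eq_def
  have := @cw.eq_1
  have := @isCode.eq_def
  have := @isCode.eq_1
  have := @isOctad.eq_def
  have := @isOctad.eq_1
  have := @isDodecad.eq_def
  have := @isDodecad.eq_1
  trivial

end H15
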